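import Groth.Agent.Lib.LCStrict50.Bij
import Groth.Agent.S0642

/-!
# Pullbacks of constant sheaves and their global sections
-/

set_option autoImplicit false
set_option linter.style.haveILetI false
set_option backward.isDefEq.respectTransparency false

universe u

open CategoryTheory CategoryTheory.Limits AlgebraicGeometry Opposite

noncomputable section

namespace Groth.Agent.Lib.Gen50.Const

open Groth.Agent.Lib.EtSite Groth.Agent.Lib.EtSite.Basic Groth.Agent.Lib.EtGerm.Basic
open Groth.Agent.Lib.LCStrict50.Const Groth.Agent.Lib.LocAcyc50.Sect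

theorem constMap_csec {X : Scheme.{u}} {M : AddCommGrpCat.{u + 1}} (F : EtCoh.Ab X)
    (φ : M →+ EtCoh.sect F (EtCoh.top X)) (m : M) :
    (constMap F φ).hom.app (op (EtCoh.top X)) (csec M (EtCoh.top X) m) = φ m := by
  let J := X.smallEtaleTopology
  have h := ((sheafificationAdjunction J AddCommGrpCat.{u + 1}).homEquiv
    ((Functor.const X.Etaleᵒᵖ).obj M) F).apply_symm_apply
    { app := fun W => AddCommGrpCat.ofHom
        ((F.obj.map ((EtCore.topIsTerminal X).from W.unop).op).hom.comp φ)
      naturality := fun W W' g => by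
        ext m
        change F.obj.map ((EtCore.topIsTerminal X).from W'.unop).op (φ m) =
          F.obj.map g (F.obj.map ((EtCore.topIsTerminal X).from W.unop).op (φ m))
        rw [← ConcreteCategory.comp_apply, ← Functor.map_comp]
        exact congrArg (fun r => F.obj.map r (φ m)) (Quiver.Hom.unop_inj ((EtCore.topIsTerminal X).hom_ext _ _)) }
  rw [Adjunction.homEquiv_unit] at h
  refine (ConcreteCategory.congr_hom (congr_app h (op (EtCoh.top X))) m).trans ?_
  change F.obj.map ((EtCore.topIsTerminal X).from (EtCoh.top X)).op (φ m) = φ m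
  rw [(EtCore.topIsTerminal X).hom_ext ((EtCore.topIsTerminal X).from (EtCoh.top X)) (𝟙 _), op_id,
    CategoryTheory.Functor.map_id]
  rfl

theorem fiber_eq {X : Scheme.{u}} {Ω : Type u} [Field Ω] [IsSepClosed Ω]
    {η : Spec (CommRingCat.of Ω) ⟶ X} {U : X.Etale} [Mono U.hom]
    (p q : (Scheme.pointSmallEtale η).fiber.obj U) : p = q :=
  Over.OverMorphism.ext ((cancel_mono U.hom).1 ((fiberHom_comp p).trans (fiberHom_comp q).symm))

instance mono_top {X : Scheme.{u}} : Mono (EtCoh.top X).hom := inferInstanceAs (Mono (𝟙 X))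

theorem germ_csec_bijective {X : Scheme.{u}} (M : AddCommGrpCat.{u + 1}) {Ω : Type u} [Field Ω] [IsSepClosed Ω]
    (η : Spec (CommRingCat.of Ω) ⟶ X) (p : (Scheme.pointSmallEtale η).fiber.obj (EtCoh.top X)) :
    Function.Bijective fun m => germ (cst X M) η (EtCoh.top X) p (csec M (EtCoh.top X) m) := by
  refine ⟨fun a b hab => sub_eq_zero.1 (eq_zero_of_germ_csec M η _ p (a - b) ?_), fun y => ?_⟩
  · have hab' : germ (cst X M) η (EtCoh.top X) p (csec M (EtCoh.top X) a) =
      germ (cst X M) η (EtCoh.top X) p (csec M (EtCoh.top X) b) := hab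
    rw [map_sub, map_sub, hab', sub_self]
  · obtain ⟨V, q, s, rfl⟩ := exists_germ (cst X M) y
    have hS := Presheaf.imageSieve_mem X.smallEtaleTopology
      (toSheafify X.smallEtaleTopology ((Functor.const _).obj M)) (U := op V) s
    obtain ⟨W, g, ⟨m, hm⟩, w, hw⟩ := (mem_topology_iff _).1 hS (fiberPt q)
    obtain ⟨q', hq', -⟩ := Fiber.exists_fiber_map η g q w hw
    refine ⟨m, ?_⟩
    subst hq'
    refine Eq.trans ?_ (germ_map (cst X M) η g q' s)
    refine Eq.trans ?_ (congrArg (germ (cst X M) η W q') hm)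
    refine Eq.trans ?_ (congrArg (germ (cst X M) η W q') (res_csec M ((EtCore.topIsTerminal X).from W) m))
    rw [germ_map]
    exact congrArg (fun r => germ (cst X M) η _ r (csec M (EtCoh.top X) m)) (fiber_eq _ _)

section pull

variable {W T : Scheme.{u}} (a : W ⟶ T) (M : AddCommGrpCat.{u + 1})

/-- Constants as sections of the pulled back constant sheaf. -/
def φ : M →+ EtCoh.sect ((EtCoh.pull a).obj (cst T M)) (EtCoh.top W) :=
  (EtJ.PullSec.pullSec a (EtCoh.top T) (EtCore.bcTopIsTerminal a) (cst T M)).comp (csec M (EtCoh.top T))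

theorem φ_eq (m : M) : φ a M m = gtop a (cst T M) (csec M (EtCoh.top T) m) :=
  (gtop_eq_pullSec a (cst T M) _).symm

theorem germ_φ_bijective {Ω : Type u} [Field Ω] [IsSepClosed Ω] (η : Spec (CommRingCat.of Ω) ⟶ W)
    (p : (Scheme.pointSmallEtale η).fiber.obj (EtCoh.top W)) :
    Function.Bijective fun m => germ ((EtCoh.pull a).obj (cst T M)) η (EtCoh.top W) p (φ a M m) := by
  obtain ⟨p₀, -⟩ : ∃ p₀ : (Scheme.pointSmallEtale (η ≫ a)).fiber.obj (EtCoh.top T), True :=
    ⟨mkFiber _ (EtCoh.top T) (η ≫ a) (Category.comp_id _), trivial⟩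
  refine Eq.mp (congrArg Function.Bijective (funext fun m => ?_))
    ((HensClosed.unitStalk_injective a η (cst T M)).comp (germ_csec_bijective M (η ≫ a) p₀))
  refine (HensClosed.unitStalk_germ a η (cst T M) _ p₀ _).trans ?_
  rw [φ_eq]
  refine Eq.trans ?_ (germ_map ((EtCoh.pull a).obj (cst T M)) η
    (lft a (EtCoh.top T) a (Category.comp_id a)) p _).symm
  haveI : IsIso ((EtCoh.bc a).obj (EtCoh.top T)).hom := inferInstanceAs (IsIso (pullback.snd (𝟙 T) a))
  exact congrArg (fun r => germ ((EtCoh.pull a).obj (cst T M)) η _ r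
    (HensClosed.unitAt a (cst T M) _ (csec M (EtCoh.top T) m))) (fiber_eq _ _)

/-- The inverse image of a constant sheaf is constant. -/
def iso : cst W M ≅ (EtCoh.pull a).obj (cst T M) :=
  haveI := isIso_constMap ((EtCoh.pull a).obj (cst T M)) (φ a M) fun Ω _ _ η p => germ_φ_bijective a M η p
  asIso (constMap ((EtCoh.pull a).obj (cst T M)) (φ a M))

theorem gtop_csec (m : M) : gtop a (cst T M) (csec M (EtCoh.top T) m) =
    (iso a M).hom.hom.app (op (EtCoh.top W)) (csec M (EtCoh.top W) m) :=
  ((constMap_csec _ (φ a M) m).trans (φ_eq a M m)).symm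

theorem csec_bijective_of_gtop (hT : Function.Bijective (csec (X := T) M (EtCoh.top T)))
    (h : Function.Bijective (gtop a (cst T M))) : Function.Bijective (csec (X := W) M (EtCoh.top W)) :=
  (Function.Bijective.of_comp_iff' (bijective_app (iso a M) (EtCoh.top W)) _).1
    (Eq.mp (congrArg Function.Bijective (funext fun m => gtop_csec a M m)) (h.comp hT))

theorem gtop_bijective_of_csec (hT : Function.Bijective (csec (X := T) M (EtCoh.top T)))
    (hW : Function.Bijective (csec (X := W) M (EtCoh.top W))) : Function.Bijective (gtop a (cst T M)) :=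
  (Function.Bijective.of_comp_iff _ hT).1
    (Eq.mpr (congrArg Function.Bijective (funext fun m => gtop_csec a M m))
      ((bijective_app (iso a M) (EtCoh.top W)).comp hW))

theorem csec_bijective_of_iso [IsIso a] (hT : Function.Bijective (csec (X := T) M (EtCoh.top T))) :
    Function.Bijective (csec (X := W) M (EtCoh.top W)) :=
  csec_bijective_of_gtop a M hT (gtop_bijective a _ (S0642.result a _ 0))

theorem H_subsingleton_pull (q : ℕ) (h : Subsingleton (EtCoh.H W (cst W M) q)) :
    Subsingleton (EtCoh.H W ((EtCoh.pull a).obj (cst T M)) q) :=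
  @Equiv.subsingleton _ _ ((EtCoh.HF W q).mapIso (iso a M).symm).addCommGroupIsoToAddEquiv.toEquiv h

theorem H_subsingleton_of_iso [IsIso a] (q : ℕ) (h : Subsingleton (EtCoh.H T (cst T M) q)) :
    Subsingleton (EtCoh.H W (cst W M) q) :=
  haveI : Subsingleton (EtCoh.H W ((EtCoh.pull a).obj (cst T M)) q) :=
    (S0642.result a (cst T M) q).2.subsingleton
  @Equiv.subsingleton _ _ ((EtCoh.HF W q).mapIso (iso a M)).addCommGroupIsoToAddEquiv.toEquiv ‹_›

end pull

end Groth.Agent.Lib.Gen50.Const
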