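import Groth.Agent.Lib.Gen50.Stalk
import Groth.Agent.Lib.RpushStalk50.Ident
import Groth.Agent.Lib.EtSite.AcyclicCrit
import Groth.Agent.Lib.EtShriek50.Exact
import Groth.Agent.S0254
import Groth.Agent.S0537
import Groth.Agent.H88.EtMod.LCAb
import Groth.Prelude.Def_EtAcyc
import Groth.Prelude.Def_Pi1
import Mathlib.AlgebraicGeometry.ResidueField
import Mathlib.AlgebraicGeometry.FunctionField

/-!
# Cohomology of the generic fibre of a locally acyclic morphism
-/

set_option autoImplicit false
set_option backward.isDefEq.respectTransparency false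
set_option linter.style.haveILetI false
set_option linter.unusedSectionVars false

universe u

open CategoryTheory CategoryTheory.Limits AlgebraicGeometry Opposite

namespace Groth.Agent.Lib.Gen50.Generic

open Groth.Agent.Lib.EtSite Groth.Agent.Lib.EtSite.Basic Groth.Agent.Lib.EtGerm.Basic
open Groth.Agent.Lib.EtLim50 Groth.Agent.Lib.PBC50 Groth.Agent.Lib.RpushStalk50
open Groth.Agent.Lib.LCStrict50.Const Groth.Agent.Lib.LocAcyc50

theorem isStrictHenselization_of_bijective (R S : Type u) [CommRing R] [IsLocalRing R] [CommRing S]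
    [IsLocalRing S] [Algebra R S] [IsLocalHom (algebraMap R S)] [HenselianLocalRing S]
    [IsSepClosed (IsLocalRing.ResidueField S)] (hb : Function.Bijective (algebraMap R S)) :
    Hensel.IsStrictHenselization R S := by
  have hs : Function.Surjective (algebraMap (IsLocalRing.ResidueField R) (IsLocalRing.ResidueField S)) := by
    intro z
    obtain ⟨z, rfl⟩ := IsLocalRing.residue_surjective z
    obtain ⟨r, rfl⟩ := hb.2 z
    exact ⟨IsLocalRing.residue R r, rfl⟩
  refine ⟨inferInstance, ⟨inferInstance, ⟨fun z => ?_⟩⟩, fun T _ _ f _ τ hτ => ?_⟩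
  · obtain ⟨r, rfl⟩ := hs z
    exact isSeparable_algebraMap r
  · let e := RingEquiv.ofBijective (algebraMap R S) hb
    refine ⟨f.comp e.symm.toRingHom, ⟨RingHom.ext fun r => congrArg f (e.symm_apply_apply r), fun z => ?_⟩,
      fun g hg => RingHom.ext fun z => ?_⟩
    · obtain ⟨r, rfl⟩ := hb.2 z
      exact (congrArg (fun w => IsLocalRing.residue T (f w)) (e.symm_apply_apply r)).trans
        (RingHom.congr_fun hτ (IsLocalRing.residue R r)).symm
    · obtain ⟨r, rfl⟩ := hb.2 z
      exact (RingHom.congr_fun hg.1 r).trans (congrArg f (e.symm_apply_apply r)).symm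

theorem isLTorsion_cst {X : Scheme.{u}} (L : Set ℕ) (M : AddCommGrpCat.{u + 1})
    (hM : ∀ m : M, ∃ k : ℕ, EtAcyc.PrimesIn L k ∧ k • m = 0) : EtAcyc.IsLTorsion L (cst X M) := by
  intro U s x
  have hS := Presheaf.imageSieve_mem X.smallEtaleTopology
    (toSheafify X.smallEtaleTopology ((Functor.const _).obj M)) (U := op U) s
  obtain ⟨V, g, ⟨m, hm⟩, v, hv⟩ := (mem_topology_iff _).1 hS x
  obtain ⟨k, hk, h0⟩ := hM m
  refine ⟨V, g, k, ⟨v, hv⟩, hk, ?_⟩
  refine (congrArg (k • ·) hm.symm).trans ?_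
  change k • csec M V m = 0
  rw [← map_nsmul, h0, map_zero]

/-- Sections over a strictly local scheme of an `L`-torsion sheaf are `L`-torsion. -/
theorem tors_sect (R : Type u) [CommRing R] [IsLocalRing R] [HenselianLocalRing R]
    [IsSepClosed (IsLocalRing.ResidueField R)] (L : Set ℕ) (G : EtCoh.Ab (Spec (CommRingCat.of R)))
    (hG : EtAcyc.IsLTorsion L G) (m : EtCoh.sect G (EtCoh.top (Spec (CommRingCat.of R)))) :
    ∃ k : ℕ, EtAcyc.PrimesIn L k ∧ k • m = 0 := by
  obtain ⟨k, hk, h0⟩ := (S8525.result L G).1 hG _ (StrictHens.cpt R)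
    (germ G (StrictHens.cpt R) (EtCoh.top _) (StrictHens.topPt R) m)
  refine ⟨k, hk, (germ_top_bijective R G).1 ?_⟩
  rw [map_zero, map_nsmul]
  exact h0

theorem specOf_comp {X Y : Scheme.{u}} (f : X ⟶ Y) (x : X) (R : Type u) [CommRing R]
    [Algebra (X.presheaf.stalk x) R] :
    Spec.map (CommRingCat.ofHom ((algebraMap (X.presheaf.stalk x) R).comp (f.stalkMap x).hom)) ≫
        Y.fromSpecStalk (f.base x) = Hens2.specOf X x R ≫ f := by
  refine Eq.trans ?_ (Category.assoc _ _ _).symm
  rw [← Scheme.SpecMap_stalkMap_fromSpecStalk, ← Category.assoc, ← Spec.map_comp]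
  rfl

section

variable {Y : Scheme.{u}} [IsIntegral Y]

theorem quasiCompact_fromSpecResidueField (y : Y) : QuasiCompact (Y.fromSpecResidueField y) :=
  ⟨fun U _ _ => (Set.toFinite _).isCompact⟩

theorem quasiSeparated_fromSpecResidueField (y : Y) : QuasiSeparated (Y.fromSpecResidueField y) :=
  inferInstance

theorem isSepClosed_functionField [IsSepClosed (Y.residueField (genericPoint Y))] :
    IsSepClosed Y.functionField :=
  Sections.isSepClosed_of_ringEquiv (RingEquiv.ofBijective (Y.residue (genericPoint Y)).hom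
    ⟨RingHom.injective (R := Y.functionField) _, Y.residue_surjective _⟩ :
      Y.functionField ≃+* Y.residueField (genericPoint Y)).symm

theorem strict_stalk (hY : Pi1.IsNormalScheme Y) [IsSepClosed (Y.residueField (genericPoint Y))] (y : Y) :
    HenselianLocalRing (Y.presheaf.stalk y) ∧ IsSepClosed (IsLocalRing.ResidueField (Y.presheaf.stalk y)) := by
  haveI := (hY y).2
  haveI := isSepClosed_functionField (Y := Y)
  haveI : IsSepClosed (FractionRing (Y.presheaf.stalk y)) :=
    Sections.isSepClosed_of_ringEquiv (FractionRing.algEquiv (Y.presheaf.stalk y) Y.functionField).toRingEquiv.symm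
  exact S0254.result (Y.presheaf.stalk y)

/-- The generic point of a local scheme of `Y`. -/
noncomputable def e₀ (y : Y) : Spec (Y.residueField (genericPoint Y)) ⟶ Spec (Y.presheaf.stalk y) :=
  Spec.map (Y.presheaf.stalkSpecializes ((genericPoint_spec Y).specializes trivial) ≫
    Y.residue (genericPoint Y))

theorem e₀_comp (y : Y) : e₀ y ≫ Y.fromSpecStalk y = Y.fromSpecResidueField (genericPoint Y) := by
  rw [e₀, Spec.map_comp, Category.assoc, Scheme.SpecMap_stalkSpecializes_fromSpecStalk]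
  rfl

theorem exists_strictLocal_generic (y : Y) [IsSepClosed (Y.residueField (genericPoint Y))] :
    ∃ (Ω : Type u) (_ : Field Ω) (_ : IsSepClosed Ω)
      (η' : Spec (CommRingCat.of Ω) ⟶ Spec (Y.presheaf.stalk y))
      (d : Spec (Y.residueField (genericPoint Y)) ⟶ Nbhds.S (Spec (Y.presheaf.stalk y)) η'),
      IsIso d ∧ d ≫ Limit.σ η' = e₀ y ∧
        ∀ M : AddCommGrpCat.{u + 1},
          Function.Bijective (csec (X := Nbhds.S (Spec (Y.presheaf.stalk y)) η') M (EtCoh.top _)) := by
  let A := Y.presheaf.stalk y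
  let K := Y.residueField (genericPoint Y)
  letI : Algebra A K := (Y.presheaf.stalkSpecializes ((genericPoint_spec Y).specializes trivial) ≫
    Y.residue (genericPoint Y)).hom.toAlgebra
  haveI : IsFractionRing A K := by
    let r : Y.functionField ≃ₐ[A] K := AlgEquiv.ofBijective
      { (Y.residue (genericPoint Y)).hom with commutes' := fun _ => rfl }
      ⟨RingHom.injective (R := Y.functionField) (Y.residue (genericPoint Y)).hom, Y.residue_surjective _⟩
    exact IsLocalization.isLocalization_of_algEquiv (nonZeroDivisors A) r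
  let s := genericPoint (Spec A)
  let R := (Spec A).functionField
  let ψ : R ≃ₐ[A] K := IsLocalization.algEquiv (nonZeroDivisors A) R K
  haveI : IsSepClosed R := Sections.isSepClosed_of_ringEquiv ψ.toRingEquiv.symm
  letI : Algebra ((Spec A).presheaf.stalk s) R := Algebra.id _
  haveI : IsLocalHom (algebraMap ((Spec A).presheaf.stalk s) R) := ⟨fun _ h => h⟩
  haveI : IsSepClosed (IsLocalRing.ResidueField R) := Sections.isSepClosed_of_ringEquiv
    (RingEquiv.ofBijective (IsLocalRing.residue R) ⟨RingHom.injective _, IsLocalRing.residue_surjective⟩)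
  haveI : HenselianLocalRing R := Field.henselian R
  haveI : Hensel.IsStrictHenselization ((Spec A).presheaf.stalk s) R :=
    isStrictHenselization_of_bijective _ _ Function.bijective_id
  let ι := Ident.ι (Spec A) s R
  haveI : IsIso ι := Ident.isIso_ι (Spec A) s R
  let j : Spec K ⟶ Spec (CommRingCat.of R) := Spec.map (CommRingCat.ofHom ψ.toRingEquiv.toRingHom)
  haveI : IsIso j := by
    haveI : IsIso (CommRingCat.ofHom ψ.toRingEquiv.toRingHom) := ψ.toRingEquiv.toCommRingCatIso.isIso_hom
    exact inferInstanceAs (IsIso (Spec.map (CommRingCat.ofHom ψ.toRingEquiv.toRingHom)))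
  refine ⟨_, inferInstance, inferInstance, Hens2.geomPt (Spec A) s R, j ≫ ι, inferInstance, ?_, fun M => ?_⟩
  · refine (Category.assoc _ _ _).trans ((congrArg (j ≫ ·) (Ident.ι_σ (Spec A) s R)).trans ?_)
    rw [Hens2.specOf, Spec.fromSpecStalk_eq']
    refine (congrArg (j ≫ ·) (Spec.map_comp _ _).symm).trans ((Spec.map_comp _ _).symm.trans ?_)
    refine congrArg Spec.map (CommRingCat.hom_ext (RingHom.ext fun a => ?_))
    exact ψ.commutes a
  · exact Const.csec_bijective_of_iso (inv ι) M (LCStrict50.Const.csec_bijective R M)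

variable {X : Scheme.{u}} (f : X ⟶ Y) (L : Set ℕ) (n : ℕ)

theorem fibre_main (hY : Pi1.IsNormalScheme Y) [IsSepClosed (Y.residueField (genericPoint Y))]
    (hf : EtAcyc.IsLocAcyclicN f L n) (x : X) (RX : Type u) [CommRing RX] [IsLocalRing RX]
    [Algebra (X.presheaf.stalk x) RX] [IsLocalHom (algebraMap (X.presheaf.stalk x) RX)]
    [Hensel.IsStrictHenselization (X.presheaf.stalk x) RX]
    (M : AddCommGrpCat.{u + 1}) (hM : ∀ m : M, ∃ k : ℕ, EtAcyc.PrimesIn L k ∧ k • m = 0)
    (Z : Scheme.{u}) (a : Z ⟶ Spec (CommRingCat.of RX)) (b : Z ⟶ Spec (Y.residueField (genericPoint Y)))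
    (cZ : IsPullback a b (Hens2.specOf X x RX ≫ f) (Y.fromSpecResidueField (genericPoint Y))) :
    Function.Bijective (csec (X := Z) M (EtCoh.top Z)) ∧
      ∀ q, 1 ≤ q → q ≤ n → Subsingleton (EtCoh.H Z (cst Z M) q) := by
  let y := f.base x
  let A := Y.presheaf.stalk y
  obtain ⟨hA1, hA2⟩ := strict_stalk hY y
  haveI : IsLocalHom (algebraMap A A) := ⟨fun _ h => h⟩
  haveI : Hensel.IsStrictHenselization A A := isStrictHenselization_of_bijective _ _ Function.bijective_id
  letI : Algebra A RX := ((algebraMap (X.presheaf.stalk x) RX).comp (f.stalkMap x).hom).toAlgebra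
  haveI : IsLocalHom (algebraMap A RX) :=
    inferInstanceAs (IsLocalHom ((algebraMap (X.presheaf.stalk x) RX).comp (f.stalkMap x).hom))
  let h : Spec (CommRingCat.of RX) ⟶ Spec A := Spec.map (CommRingCat.ofHom (algebraMap A RX))
  have hacy : EtAcyc.IsAcyclicN h L n := hf x A RX (RingHom.comp_id _)
  have hl : AcyclicCrit.LocComp h L n := fun W =>
    ⟨pullback W.hom h, pullback.snd W.hom h, pullback.fst W.hom h,
      (IsPullback.of_hasPullback W.hom h).flip, hacy W⟩
  obtain ⟨Ω, _, _, η', d, _, hdσ, hS⟩ := exists_strictLocal_generic y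
  have hT := isLTorsion_cst (X := Spec A) L M hM
  haveI := AcyclicCrit.isIso_unit hl (cst (Spec A) M) hT
  have hU : Function.Bijective ((EtCoh.stalk η').map ((EtCoh.pullPushAdj h).unit.app (cst (Spec A) M))) :=
    (ConcreteCategory.isIso_iff_bijective _).1 inferInstance
  let T := (pullback h (Limit.σ η') : Scheme.{u})
  have c₁ : IsPullback (pullback.fst h (Limit.σ η')) (pullback.snd h (Limit.σ η') ≫ inv d) h (e₀ y) := by
    refine (IsPullback.of_hasPullback h (Limit.σ η')).of_iso (Iso.refl _) (Iso.refl _) (asIso d).symm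
      (Iso.refl _) ?_ ?_ ?_ ?_
    · simp
    · simp
    · simp
    · simp [← hdσ]
  have hh : h ≫ Y.fromSpecStalk y = Hens2.specOf X x RX ≫ f := specOf_comp f x RX
  have c₂ : IsPullback (pullback.fst h (Limit.σ η')) (pullback.snd h (Limit.σ η') ≫ inv d)
      (Hens2.specOf X x RX ≫ f) (Y.fromSpecResidueField (genericPoint Y)) := by
    rw [← hh, ← e₀_comp y]
    exact IsPullback.of_isLimit (PullbackCone.isLimitOfCompMono h (e₀ y) (Y.fromSpecStalk y) _ c₁.isLimit)
  let e : Z ≅ T := cZ.isoIsPullback _ _ c₂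
  refine ⟨Const.csec_bijective_of_iso e.hom M (Stalk.csec_bijective h η' M (hS M) hU), fun q h1 h2 => ?_⟩
  exact Const.H_subsingleton_of_iso e.hom M q (Stalk.H_subsingleton h η' M q
    ((EtCoh.stalk η').map_isZero (AcyclicCrit.isZero_Rpush hl q h1 h2 _ hT)))

theorem stalk_main (hY : Pi1.IsNormalScheme Y) [IsSepClosed (Y.residueField (genericPoint Y))]
    (hf : EtAcyc.IsLocAcyclicN f L n) (F : EtCoh.Ab X) (hF : EtAcyc.IsLTorsion L F)
    (hlc : EtRest.IsLocallyConstant F) (x : X) :
    ∃ (Ω : Type u) (_ : Field Ω) (_ : IsSepClosed Ω) (ξ : Spec (CommRingCat.of Ω) ⟶ X),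
      ξ.base default = x ∧
        Function.Bijective ((EtCoh.stalk ξ).map
          ((EtCoh.pullPushAdj (pullback.fst f (Y.fromSpecResidueField (genericPoint Y)))).unit.app F)) ∧
        ∀ q, 1 ≤ q → q ≤ n → IsZero ((EtCoh.stalk ξ).obj
          ((EtCoh.Rpush (pullback.fst f (Y.fromSpecResidueField (genericPoint Y))) q).obj
            ((EtCoh.pull (pullback.fst f (Y.fromSpecResidueField (genericPoint Y)))).obj F))) := by
  haveI := quasiCompact_fromSpecResidueField (genericPoint Y)
  haveI := quasiSeparated_fromSpecResidueField (genericPoint Y)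
  let g := pullback.fst f (Y.fromSpecResidueField (genericPoint Y))
  haveI : QuasiCompact g := MorphismProperty.pullback_fst _ _ inferInstance
  haveI : QuasiSeparated g := MorphismProperty.pullback_fst _ _ inferInstance
  obtain ⟨RX, _, _, _, _, hX⟩ := S0537.result (X.presheaf.stalk x)
  haveI : HenselianLocalRing RX := hX.henselian
  haveI : IsSepClosed (IsLocalRing.ResidueField RX) := hX.isSepClosure.sep_closed
  let ξ := Hens2.geomPt X x RX
  refine ⟨_, inferInstance, inferInstance, ξ, StrictLocLift.geomPt_apply x RX default, ?_⟩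
  let ι := Ident.ι X x RX
  haveI : IsIso ι := Ident.isIso_ι X x RX
  let G := (EtCoh.pull (Hens2.specOf X x RX)).obj F
  obtain ⟨eG⟩ := LCStrict50.Const.nonempty_iso RX G (H88.EtMod.LCAb.isLC_pull _ hlc)
  let M := AddCommGrpCat.of (EtCoh.sect G (EtCoh.top (Spec (CommRingCat.of RX))))
  have hM : ∀ m : M, ∃ k : ℕ, EtAcyc.PrimesIn L k ∧ k • m = 0 :=
    tors_sect RX L G (S3513.isLTorsion_pull _ L F hF)
  have hσ : inv ι ≫ Hens2.specOf X x RX = Limit.σ ξ := by
    rw [IsIso.inv_comp_eq]; exact (Ident.ι_σ X x RX).symm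
  let eσ : cst (Nbhds.S X ξ) M ≅ (EtCoh.pull (Limit.σ ξ)).obj F :=
    Const.iso (inv ι) M ≪≫ (EtCoh.pull (inv ι)).mapIso eG ≪≫
      (((EtCore.pullComp (inv ι) (Hens2.specOf X x RX)).symm ≪≫ EtCore.pullCongr hσ).app F)
  have c₀ : IsPullback (pullback.snd g (Limit.σ ξ)) (pullback.fst g (Limit.σ ξ) ≫ pullback.snd _ _)
      (Limit.σ ξ ≫ f) (Y.fromSpecResidueField (genericPoint Y)) :=
    (IsPullback.of_hasPullback g (Limit.σ ξ)).flip.paste_vert (IsPullback.of_hasPullback _ _)
  have cZ : IsPullback (pullback.snd g (Limit.σ ξ) ≫ inv ι) (pullback.fst g (Limit.σ ξ) ≫ pullback.snd _ _)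
      (Hens2.specOf X x RX ≫ f) (Y.fromSpecResidueField (genericPoint Y)) := by
    refine c₀.of_iso (Iso.refl _) (asIso ι).symm (Iso.refl _) (Iso.refl _) ?_ ?_ ?_ ?_
    · simp
    · simp
    · simp [← hσ]
    · simp
  obtain ⟨hZ, hH⟩ := fibre_main f L n hY hf x RX M hM _ _ _ cZ
  refine ⟨Main.bijective_stalk_unit g ξ F ?_, fun q h1 h2 => Main.isZero_stalk_Rpush g ξ F q ?_⟩
  · exact Sect.gtop_bijective_of_iso _ eσ (Const.gtop_bijective_of_csec _ M
      (Const.csec_bijective_of_iso (inv ι) M (LCStrict50.Const.csec_bijective RX M)) hZ)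
  · exact @Equiv.subsingleton _ _ ((EtCoh.HF _ q).mapIso
      (Const.iso (pullback.snd g (Limit.σ ξ)) M ≪≫
        (EtCoh.pull (pullback.snd g (Limit.σ ξ))).mapIso eσ)).addCommGroupIsoToAddEquiv.toEquiv.symm (hH q h1 h2)

end

end Groth.Agent.Lib.Gen50.Generic
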