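import Groth.Agent.Lib.LocAcyc50.Main
import Groth.Agent.Lib.Gen50.Const

/-!
# Global sections and cohomology from stalks of direct images
-/

set_option autoImplicit false
set_option backward.isDefEq.respectTransparency false
set_option linter.style.haveILetI false
set_option linter.unusedSectionVars false

universe u

open CategoryTheory CategoryTheory.Limits AlgebraicGeometry Opposite

namespace Groth.Agent.Lib.Gen50.Stalk

open Groth.Agent.Lib.EtSite Groth.Agent.Lib.EtSite.Basic Groth.Agent.Lib.EtGerm.Basic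
open Groth.Agent.Lib.EtLim50 Groth.Agent.Lib.PBC50 Groth.Agent.Lib.RpushStalk50
open Groth.Agent.Lib.LocAcyc50 Groth.Agent.Lib.LocAcyc50.Sect Groth.Agent.Lib.LocAcyc50.Main
open Groth.Agent.Lib.LCStrict50.Const

variable {X' Xt : Scheme.{u}} (h : Xt ⟶ X') [QuasiCompact h] [QuasiSeparated h]
  {Ω' : Type u} [Field Ω'] [IsSepClosed Ω'] (ξ : Spec (CommRingCat.of Ω') ⟶ X')

theorem subsingleton_H (G : EtCoh.Ab X') (n : ℕ)
    (hz : IsZero ((EtCoh.stalk ξ).obj ((EtCoh.Rpush h n).obj ((EtCoh.pull h).obj G)))) :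
    Subsingleton (EtCoh.H (pullback h (Limit.σ ξ))
      ((EtCoh.pull (pullback.snd h (Limit.σ ξ))).obj ((EtCoh.pull (Limit.σ ξ)).obj G)) n) := by
  obtain ⟨e⟩ := RpushStalk50.Main.nonempty_iso h ξ (c := Limit.cone h ξ) (pullback.fst h (Limit.σ ξ))
    (Limit.cone_hq h ξ) (Main.hcpt h ξ) (Main.hqs h ξ) (Limit.isLimitCone h ξ) n
  exact AddCommGrpCat.subsingleton_of_isZero (hz.of_iso ((e.app ((EtCoh.pull h).obj G)) ≪≫
    (EtCoh.HF (pullback h (Limit.σ ξ)) n).mapIso ((b₁ h ξ).app G ≪≫ (((EtCore.pullComp (pullback.snd h (Limit.σ ξ)) (Limit.σ ξ)).symm ≪≫ EtCore.pullCongr (pullback.condition (f := h) (g := Limit.σ ξ)).symm).app G).symm)).symm)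

theorem gtop_surjective (G : EtCoh.Ab X')
    (hU : Function.Bijective ((EtCoh.stalk ξ).map ((EtCoh.pullPushAdj h).unit.app G))) :
    Function.Surjective (gtop (pullback.snd h (Limit.σ ξ)) ((EtCoh.pull (Limit.σ ξ)).obj G)) := by
  intro z
  let ι₁ := ((b₁ h ξ).app G).hom.hom.app (op (EtCoh.top (pullback h (Limit.σ ξ))))
  let ι₂ := (((EtCore.pullComp (pullback.snd h (Limit.σ ξ)) (Limit.σ ξ)).symm ≪≫ EtCore.pullCongr (pullback.condition (f := h) (g := Limit.σ ξ)).symm).app G).hom.hom.app (op (EtCoh.top (pullback h (Limit.σ ξ))))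
  have h₁ : Function.Bijective ι₁ := bijective_app ((b₁ h ξ).app G) _
  have h₂ : Function.Bijective ι₂ := bijective_app (((EtCore.pullComp (pullback.snd h (Limit.σ ξ)) (Limit.σ ξ)).symm ≪≫ EtCore.pullCongr (pullback.condition (f := h) (g := Limit.σ ξ)).symm).app G) _
  have hc := RpushStalk50.Main.bijective_comp h ξ (c := Limit.cone h ξ) (pullback.fst h (Limit.σ ξ))
    (Limit.cone_hq h ξ) (Main.hcpt h ξ) (Main.hqs h ξ) (Limit.isLimitCone h ξ) ((EtCoh.pull h).obj G)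
  obtain ⟨y', hy'⟩ := h₁.2 (ι₂ z)
  obtain ⟨y, hy⟩ := hc.2 y'
  obtain ⟨x, rfl⟩ := hU.2 y
  obtain ⟨V, p, s, rfl⟩ := exists_germ G x
  obtain ⟨a, ⟨α⟩⟩ := Nbhds.exists_hom X' ξ ⟨V, p⟩
  let s₁ : EtCoh.sect G ((Nbhds.nbhd X' ξ).obj a) := G.obj.map α.1.op s
  have hgerm : germ G ξ V p s = germ G ξ ((Nbhds.nbhd X' ξ).obj a) a.2 s₁ :=
    (congrArg (fun r => germ G ξ V r s) α.2).symm.trans (germ_map G ξ α.1 a.2 s).symm
  refine ⟨Sections.res (W := Nbhds.nbhd X' ξ) (c := Nbhds.cone X' ξ) (Limit.σ ξ) (Limit.π_str ξ) G a s₁, h₂.1 ?_⟩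
  refine ((key h ξ G a s₁).symm.trans ?_).trans hy'
  refine congrArg ι₁ (Eq.trans ?_ hy)
  rw [hgerm]

theorem csec_bijective (M : AddCommGrpCat.{u + 1})
    (hS : Function.Bijective (csec (X := Nbhds.S X' ξ) M (EtCoh.top _)))
    (hU : Function.Bijective ((EtCoh.stalk ξ).map ((EtCoh.pullPushAdj h).unit.app (cst X' M)))) :
    Function.Bijective (csec (X := (pullback h (Limit.σ ξ) : Scheme.{u})) M (EtCoh.top _)) := by
  obtain hne | hne := isEmpty_or_nonempty ↥(pullback h (Limit.σ ξ) : Scheme.{u})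
  · haveI hs : ∀ F : EtCoh.Ab (pullback h (Limit.σ ξ)), Subsingleton (EtCoh.sect F (EtCoh.top (pullback h (Limit.σ ξ)))) :=
      fun F => ⟨fun s t => Stalk.sections_ext_of_germ _ s t (fun x => isEmptyElim (α := ↥(pullback h (Limit.σ ξ) : Scheme.{u})) x)⟩
    have hc := RpushStalk50.Main.bijective_comp h ξ (c := Limit.cone h ξ) (pullback.fst h (Limit.σ ξ))
      (Limit.cone_hq h ξ) (Main.hcpt h ξ) (Main.hqs h ξ) (Limit.isLimitCone h ξ) ((EtCoh.pull h).obj (cst X' M))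
    have hM : ∀ m : M, m = 0 := fun m => eq_zero_of_germ_csec M ξ (EtCoh.top X')
      (mkFiber ξ (EtCoh.top X') ξ (Category.comp_id _)) m (hU.1 (hc.1 (@Subsingleton.elim _ (hs _) _ _)))
    exact ⟨fun a b _ => (hM a).trans (hM b).symm, fun s => ⟨0, Subsingleton.elim _ _⟩⟩
  · have hsur := gtop_surjective h ξ (cst X' M) hU
    have hb : Function.Bijective (gtop (pullback.snd h (Limit.σ ξ)) (cst (Nbhds.S X' ξ) M)) := by
      refine ⟨fun s t hst => ?_, fun z => ?_⟩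
      · obtain ⟨m, rfl⟩ := hS.2 s
        obtain ⟨m', rfl⟩ := hS.2 t
        refine congrArg _ (sub_eq_zero.1 (LCStrict50.Bij.gtop_csec_injective (pullback.snd h (Limit.σ ξ)) M (m - m') ?_))
        rw [← Const.φ_eq, map_sub, Const.φ_eq, Const.φ_eq, hst, sub_self]
      · let e := Const.iso (Limit.σ ξ) M
        obtain ⟨s', hs'⟩ := hsur (((EtCoh.pull (pullback.snd h (Limit.σ ξ))).mapIso e).hom.hom.app (op (EtCoh.top _)) z)
        obtain ⟨s, rfl⟩ := (bijective_app e (EtCoh.top _)).2 s'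
        refine ⟨s, (bijective_app ((EtCoh.pull (pullback.snd h (Limit.σ ξ))).mapIso e) (EtCoh.top _)).1 ?_⟩
        exact (gsec_natural (pullback.snd h (Limit.σ ξ)) e.hom (EtCoh.top _) _ (Category.comp_id _) s).symm.trans hs'
    exact Const.csec_bijective_of_gtop _ M hS hb

theorem H_subsingleton (M : AddCommGrpCat.{u + 1}) (n : ℕ)
    (hz : IsZero ((EtCoh.stalk ξ).obj ((EtCoh.Rpush h n).obj ((EtCoh.pull h).obj (cst X' M))))) :
    Subsingleton (EtCoh.H (pullback h (Limit.σ ξ)) (cst (pullback h (Limit.σ ξ)) M) n) :=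
  @Equiv.subsingleton _ _ ((EtCoh.HF _ n).mapIso (Const.iso (pullback.snd h (Limit.σ ξ)) M ≪≫
    (EtCoh.pull (pullback.snd h (Limit.σ ξ))).mapIso (Const.iso (Limit.σ ξ) M))).addCommGroupIsoToAddEquiv.toEquiv
    (subsingleton_H h ξ (cst X' M) n hz)

end Groth.Agent.Lib.Gen50.Stalk
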